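import Mathlib

/-!
The Sylow 2-subgroup of the symmetric group on `2 ^ k` points as an iterated wreath product:
centre, decompositions into commuting normal factors, and the centraliser of its even part.
-/

set_option autoImplicit false

namespace CfsgLib.AltTwoDecomp

open Equiv
open scoped commutatorElement

/-- The points of the `k`-th block. -/
abbrev Pt : ℕ → Type
  | 0 => Unit
  | k + 1 => Pt k ⊕ Pt k

instance ptFintype : ∀ k, Fintype (Pt k)
  | 0 => inferInstanceAs (Fintype Unit)
  | k + 1 => @instFintypeSum _ _ (ptFintype k) (ptFintype k)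

instance ptDecidableEq : ∀ k, DecidableEq (Pt k)
  | 0 => inferInstanceAs (DecidableEq Unit)
  | k + 1 => @instDecidableEqSum _ _ (ptDecidableEq k) (ptDecidableEq k)

theorem card_pt : ∀ k, Fintype.card (Pt k) = 2 ^ k
  | 0 => rfl
  | k + 1 => by
    rw [show Fintype.card (Pt (k + 1)) = Fintype.card (Pt k ⊕ Pt k) from
      Fintype.card_congr (Equiv.refl _), Fintype.card_sum, card_pt k, pow_succ]
    ring

section wreath

variable {α : Type} [Fintype α] [DecidableEq α]

/-- The exchange of the two halves. -/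
def halves (α : Type) : Perm (α ⊕ α) := Equiv.sumComm α α

omit [Fintype α] [DecidableEq α] in
theorem halves_mul_self : halves α * halves α = 1 := by ext x; rcases x with x | x <;> rfl

omit [Fintype α] [DecidableEq α] in
theorem halves_conj (p q : Perm α) :
    halves α * Perm.sumCongr p q = Perm.sumCongr q p * halves α := by
  ext x; rcases x with x | x <;> rfl

omit [Fintype α] [DecidableEq α] in
theorem sumCongr_eq {p q p' q' : Perm α} (h : Perm.sumCongr p q = Perm.sumCongr p' q') :
    p = p' ∧ q = q' := Prod.mk_inj.mp (Perm.sumCongrHom_injective (a₁ := (p, q)) (a₂ := (p', q')) h)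

omit [Fintype α] [DecidableEq α] in
theorem sumCongr_ne [Nonempty α] (p q p' q' : Perm α) :
    Perm.sumCongr p q ≠ Perm.sumCongr p' q' * halves α := by
  intro h
  obtain ⟨a⟩ := ‹Nonempty α›
  exact absurd (Equiv.congr_fun h (Sum.inl a)) (by simp [halves])

theorem sign_halves (h : Even (Fintype.card α)) : Perm.sign (halves α) = 1 := by
  have e : halves α = ((Equiv.prodComm α Bool).trans (Equiv.boolProdEquivSum α)).permCongr
      (Equiv.prodCongrRight fun _ : α => Equiv.swap false true) := by
    ext x; rcases x with x | x <;> rfl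
  rw [e, Perm.sign_permCongr, Perm.sign_prodCongrRight, Finset.prod_const, Finset.card_univ,
    Perm.sign_swap Bool.false_ne_true, h.neg_one_pow]

/-- The wreath product of `B` with the group of order two. -/
def wr (B : Subgroup (Perm α)) : Subgroup (Perm (α ⊕ α)) where
  carrier := {g | ∃ p ∈ B, ∃ q ∈ B, g = Perm.sumCongr p q ∨ g = Perm.sumCongr p q * halves α}
  one_mem' := ⟨1, one_mem B, 1, one_mem B, Or.inl Perm.sumCongr_one.symm⟩
  mul_mem' := by
    rintro _ _ ⟨p, hp, q, hq, rfl | rfl⟩ ⟨p', hp', q', hq', rfl | rfl⟩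
    · exact ⟨_, mul_mem hp hp', _, mul_mem hq hq', Or.inl (Perm.sumCongr_mul _ _ _ _)⟩
    · exact ⟨_, mul_mem hp hp', _, mul_mem hq hq', Or.inr (by
        rw [← mul_assoc, Perm.sumCongr_mul])⟩
    · exact ⟨_, mul_mem hp hq', _, mul_mem hq hp', Or.inr (by
        rw [mul_assoc, halves_conj, ← mul_assoc, Perm.sumCongr_mul])⟩
    · exact ⟨_, mul_mem hp hq', _, mul_mem hq hp', Or.inl (by
        rw [mul_assoc, ← mul_assoc (halves α), halves_conj, mul_assoc, halves_mul_self, mul_one,
          Perm.sumCongr_mul])⟩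
  inv_mem' := by
    rintro _ ⟨p, hp, q, hq, rfl | rfl⟩
    · exact ⟨_, inv_mem hp, _, inv_mem hq, Or.inl (Perm.sumCongr_inv _ _)⟩
    · exact ⟨_, inv_mem hq, _, inv_mem hp, Or.inr (by
        rw [_root_.mul_inv_rev, inv_eq_of_mul_eq_one_right halves_mul_self, Perm.sumCongr_inv,
          halves_conj])⟩

theorem card_wr [Nonempty α] (B : Subgroup (Perm α)) :
    Nat.card (wr B) = 2 * (Nat.card B * Nat.card B) := by
  rw [← Nat.card_prod, show (2 : ℕ) = Nat.card Bool by simp, ← Nat.card_prod]
  refine (Nat.card_eq_of_bijective (fun x : Bool × (B × B) => (⟨Perm.sumCongr x.2.1.1 x.2.2.1 *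
      (if x.1 then halves α else 1), ⟨x.2.1, x.2.1.2, x.2.2, x.2.2.2, by
        cases x.1 <;> simp⟩⟩ : wr B)) ⟨?_, ?_⟩).symm
  · rintro ⟨b, p, q⟩ ⟨b', p', q'⟩ h
    have h' := congrArg Subtype.val h
    cases b <;> cases b'
    · simp only [Bool.false_eq_true, if_false, mul_one] at h'
      obtain ⟨e1, e2⟩ := sumCongr_eq h'
      rw [Subtype.ext e1, Subtype.ext e2]
    · simp only [Bool.false_eq_true, if_false, mul_one, if_true] at h'
      exact absurd h' (sumCongr_ne _ _ _ _)
    · simp only [Bool.false_eq_true, if_false, mul_one, if_true] at h'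
      exact absurd h'.symm (sumCongr_ne _ _ _ _)
    · simp only [if_true, mul_left_inj] at h'
      obtain ⟨e1, e2⟩ := sumCongr_eq h'
      rw [Subtype.ext e1, Subtype.ext e2]
  · rintro ⟨g, p, hp, q, hq, hg⟩
    rcases hg with rfl | rfl
    · exact ⟨(false, ⟨p, hp⟩, ⟨q, hq⟩), Subtype.ext (by simp)⟩
    · exact ⟨(true, ⟨p, hp⟩, ⟨q, hq⟩), Subtype.ext (by simp)⟩

theorem mem_wr {B : Subgroup (Perm α)} {p q : Perm α} (hp : p ∈ B) (hq : q ∈ B) :
    Perm.sumCongr p q ∈ wr B := ⟨p, hp, q, hq, Or.inl rfl⟩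

theorem halves_mem (B : Subgroup (Perm α)) : halves α ∈ wr B :=
  ⟨1, one_mem B, 1, one_mem B, Or.inr (by rw [Perm.sumCongr_one, one_mul])⟩

end wreath

/-- The Sylow 2-subgroup of the block. -/
def blk : ∀ k, Subgroup (Perm (Pt k))
  | 0 => ⊤
  | k + 1 => wr (blk k)

instance pt_nonempty : ∀ k, Nonempty (Pt k)
  | 0 => ⟨()⟩
  | k + 1 => ⟨Sum.inl (Classical.choice (pt_nonempty k))⟩

theorem card_blk : ∀ k, Nat.card (blk k) = 2 ^ (2 ^ k - 1)
  | 0 => by
    rw [show blk 0 = ⊤ from rfl, Subgroup.card_top]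
    exact Nat.card_unique
  | k + 1 => by
    rw [show blk (k + 1) = wr (blk k) from rfl, card_wr, card_blk k, ← pow_add, ← pow_succ']
    congr 1
    have : 1 ≤ 2 ^ k := Nat.one_le_two_pow
    rw [pow_succ]; omega

/-- The sign on a block group. -/
noncomputable def bsign (k : ℕ) : blk k →* ℤˣ := Perm.sign.comp (blk k).subtype

/-- What the induction carries: the centre has order two and there is an odd element. -/
structure Carry (k : ℕ) (z : Perm (Pt k)) : Prop where
  mem : z ∈ blk k
  ne : z ≠ 1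
  comm : ∀ w ∈ blk k, w * z = z * w
  center : ∀ x ∈ blk k, (∀ w ∈ blk k, w * x = x * w) → x = 1 ∨ x = z
  even : 2 ≤ k → Perm.sign z = 1
  odd : ∃ w ∈ blk k, Perm.sign w = -1

theorem even_card_pt {k : ℕ} (hk : 1 ≤ k) : Even (Fintype.card (Pt k)) := by
  rw [card_pt]; exact (Nat.even_pow' (by omega)).mpr even_two

theorem exists_carry : ∀ j : ℕ, ∃ z, Carry (j + 1) z
  | 0 => by
    have hall : ∀ g : Perm (Pt 1), g = 1 ∨ g = halves Unit := by
      intro g
      by_cases h : g (Sum.inl ()) = Sum.inl ()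
      · left
        have h' : g (Sum.inr ()) = Sum.inr () := by
          rcases he : g (Sum.inr ()) with u | u
          · exact absurd (g.injective (h.trans he.symm)) (by simp)
          · rfl
        ext x; rcases x with ⟨⟩ | ⟨⟩
        · exact h
        · exact h'
      · right
        have h1 : g (Sum.inl ()) = Sum.inr () := by
          rcases he : g (Sum.inl ()) with u | u
          · exact absurd he h
          · rfl
        have h2 : g (Sum.inr ()) = Sum.inl () := by
          rcases he : g (Sum.inr ()) with u | u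
          · rfl
          · exact absurd (g.injective (h1.trans he.symm)) (by simp)
        ext x; rcases x with ⟨⟩ | ⟨⟩
        · exact h1
        · exact h2
    have hne : halves Unit ≠ 1 := fun h =>
      absurd (Equiv.congr_fun h (Sum.inl ())) (by simp [halves])
    refine ⟨halves Unit, halves_mem _, hne, fun w _ => ?_, fun x _ _ => hall x,
      fun h => absurd h (by norm_num), halves Unit, halves_mem _, ?_⟩
    · rcases hall w with rfl | rfl <;> simp
    · rw [show halves Unit = Equiv.swap (Sum.inl ()) (Sum.inr ()) from by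
        ext x; rcases x with ⟨⟩ | ⟨⟩ <;> simp [halves]]
      exact Perm.sign_swap (by simp)
  | j + 1 => by
    obtain ⟨z, hz⟩ := exists_carry j
    obtain ⟨o, ho, hos⟩ := hz.odd
    refine ⟨Perm.sumCongr z z, mem_wr hz.mem hz.mem, fun h => hz.ne ?_, ?_, ?_, fun _ => ?_,
      Perm.sumCongr o 1, mem_wr ho (one_mem _), ?_⟩
    · exact (sumCongr_eq (h.trans Perm.sumCongr_one.symm)).1
    · rintro w ⟨p, hp, q, hq, rfl | rfl⟩
      · rw [Perm.sumCongr_mul, Perm.sumCongr_mul, hz.comm p hp, hz.comm q hq]
      · rw [mul_assoc, halves_conj, ← mul_assoc, ← mul_assoc, Perm.sumCongr_mul,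
          Perm.sumCongr_mul, hz.comm p hp, hz.comm q hq]
    · rintro x ⟨p, hp, q, hq, rfl | rfl⟩ hx
      · have hpq : p = q := by
          have e := hx _ (halves_mem _)
          rw [halves_conj] at e
          exact (sumCongr_eq (mul_right_cancel e)).2
        subst hpq
        have hc : ∀ w ∈ blk (j + 1), w * p = p * w := fun w hw => by
          have e := hx _ (mem_wr hw hw)
          rw [Perm.sumCongr_mul, Perm.sumCongr_mul] at e
          exact (sumCongr_eq e).1
        rcases hz.center p hp hc with rfl | rfl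
        · exact Or.inl Perm.sumCongr_one
        · exact Or.inr rfl
      · exfalso
        have e := hx _ (mem_wr hz.mem (one_mem _))
        rw [mul_assoc _ (halves _), halves_conj, ← mul_assoc, ← mul_assoc, mul_left_inj,
          Perm.sumCongr_mul, Perm.sumCongr_mul, mul_one] at e
        have := (sumCongr_eq e).1
        exact hz.ne (by simpa using this)
    · exact (Perm.sign_sumCongr z z).trans (Int.units_mul_self _)
    · exact (Perm.sign_sumCongr o 1).trans (by rw [hos, map_one, mul_one])

/-- The properties of a block of at least four points used in the products. -/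
structure IsBlock {W : Type} [Group W] (s : W →* ℤˣ) (z : W) : Prop where
  ne : z ≠ 1
  comm : ∀ w, w * z = z * w
  center : ∀ x : W, (∀ w, w * x = x * w) → x = 1 ∨ x = z
  even : s z = 1
  odd : ∃ w, s w = -1
  nonabelian : ∃ a b : W, a * b ≠ b * a
  bracket : ∃ e w, s e = 1 ∧ ⁅e, w⁆ = z
  split : ∀ A B : Subgroup W, A.Normal → B.Normal → (∀ a ∈ A, ∀ b ∈ B, a * b = b * a) →
    A ⊔ B = ⊤ → A ≤ Subgroup.center W ∨ B ≤ Subgroup.center W

theorem exists_block (j : ℕ) : ∃ z : blk (j + 2), IsBlock (bsign (j + 2)) z ∧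
    (1 ≤ j → ∀ g : blk (j + 2), (∀ e, bsign (j + 2) e = 1 → e * g = g * e) → g = 1 ∨ g = z) := by
  obtain ⟨z, hz⟩ := exists_carry j
  obtain ⟨Z, hZ⟩ := exists_carry (j + 1)
  obtain ⟨o, ho, hos⟩ := hz.odd
  have hodd : ∃ w : blk (j + 2), bsign (j + 2) w = -1 := by
    obtain ⟨w, hw, hws⟩ := hZ.odd; exact ⟨⟨w, hw⟩, hws⟩
  let C : blk (j + 2) := ⟨Perm.sumCongr z z, mem_wr hz.mem hz.mem⟩
  let T : blk (j + 2) := ⟨halves _, halves_mem _⟩
  let L : blk (j + 2) := ⟨Perm.sumCongr z 1, mem_wr hz.mem (one_mem _)⟩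
  have hCne : C ≠ 1 := fun h => hz.ne
    (sumCongr_eq ((congrArg Subtype.val h).trans Perm.sumCongr_one.symm)).1
  have hcomm : ∀ w : blk (j + 2), w * C = C * w := by
    rintro ⟨_, p, hp, q, hq, rfl | rfl⟩ <;> apply Subtype.ext
    · show Perm.sumCongr p q * Perm.sumCongr z z = Perm.sumCongr z z * Perm.sumCongr p q
      rw [Perm.sumCongr_mul, Perm.sumCongr_mul, hz.comm p hp, hz.comm q hq]
    · show Perm.sumCongr p q * halves _ * Perm.sumCongr z z =
        Perm.sumCongr z z * (Perm.sumCongr p q * halves _)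
      rw [mul_assoc, halves_conj, ← mul_assoc, ← mul_assoc, Perm.sumCongr_mul,
        Perm.sumCongr_mul, hz.comm p hp, hz.comm q hq]
  have hcen : ∀ x : blk (j + 2), (∀ w, w * x = x * w) → x = 1 ∨ x = C := by
    intro x hx
    have hC := hZ.center _ C.2 fun w hw => congrArg Subtype.val (hcomm ⟨w, hw⟩)
    rcases hC with h | h
    · exact absurd (Subtype.ext h) hCne
    · rcases hZ.center _ x.2 fun w hw => congrArg Subtype.val (hx ⟨w, hw⟩) with h' | h'
      · exact Or.inl (Subtype.ext h')
      · exact Or.inr (Subtype.ext (h'.trans h.symm))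
  have hTs : bsign (j + 2) T = 1 := by
    exact sign_halves (α := Pt (j + 1)) (even_card_pt (Nat.le_add_left 1 j))
  have hbr : ⁅T, L⁆ = C := by
    apply Subtype.ext
    show ⁅halves (Pt (j + 1)), Perm.sumCongr z 1⁆ = Perm.sumCongr z z
    have hzz : z * z = 1 := by
      rcases hz.center _ (mul_mem hz.mem hz.mem) (fun w hw => by
        rw [← mul_assoc, hz.comm w hw, mul_assoc, hz.comm w hw, ← mul_assoc]) with h | h
      · exact h
      · exact absurd (mul_eq_right.mp h) hz.ne
    rw [commutatorElement_def, inv_eq_of_mul_eq_one_right halves_mul_self, Perm.sumCongr_inv,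
      inv_one, halves_conj, mul_assoc _ (halves _) (halves _), halves_mul_self, mul_one,
      Perm.sumCongr_mul, one_mul, mul_one, inv_eq_of_mul_eq_one_right hzz]
  refine ⟨C, ⟨hCne, hcomm, hcen, ?_, hodd, ?_, ⟨T, L, hTs, hbr⟩, ?_⟩, ?_⟩
  · exact (Perm.sign_sumCongr z z).trans (Int.units_mul_self _)
  · refine ⟨T, L, fun h => hCne ?_⟩
    rw [← hbr]; exact commutatorElement_eq_one_iff_mul_comm.mpr h
  · -- commuting normal factors
    have key : ∀ A B : Subgroup (blk (j + 2)), B.Normal → (∀ a ∈ A, ∀ b ∈ B, a * b = b * a) →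
        (∃ a ∈ A, ∃ p ∈ blk (j + 1), ∃ q ∈ blk (j + 1),
          (a : Perm (Pt (j + 2))) = Perm.sumCongr p q * halves _) →
        ∀ b ∈ B, (∃ p ∈ blk (j + 1), ∃ q ∈ blk (j + 1), (b : Perm (Pt (j + 2))) = Perm.sumCongr p q) →
          b ∈ Subgroup.center (blk (j + 2)) := by
      intro A B hB hAB ⟨a, ha, x, hx, y, hy, hav⟩ b hb ⟨p, hp, q, hq, hbv⟩
      have hrel : ∀ b' ∈ B, ∀ r t : Perm (Pt (j + 1)), (b' : Perm (Pt (j + 2))) = Perm.sumCongr r t →
          x * t = r * x := by
        intro b' hb' r t h'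
        have e : (a : Perm (Pt (j + 2))) * b' = b' * a := congrArg Subtype.val (hAB a ha b' hb')
        rw [hav, h', mul_assoc, halves_conj, ← mul_assoc, ← mul_assoc, mul_left_inj,
          Perm.sumCongr_mul, Perm.sumCongr_mul] at e
        exact (sumCongr_eq e).1
      have hpc : ∀ w ∈ blk (j + 1), w * p = p * w := by
        intro w hw
        let W' : blk (j + 2) := ⟨Perm.sumCongr w 1, mem_wr hw (one_mem _)⟩
        have hm : W' * b * W'⁻¹ * b⁻¹ ∈ B := B.mul_mem (hB.conj_mem b hb W') (B.inv_mem hb)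
        have hv : ((W' * b * W'⁻¹ * b⁻¹ : blk (j + 2)) : Perm (Pt (j + 2))) =
            Perm.sumCongr (w * p * w⁻¹ * p⁻¹) 1 := by
          simp only [Subgroup.coe_mul, Subgroup.coe_inv, W', hbv, Perm.sumCongr_inv,
            Perm.sumCongr_mul, inv_one, one_mul, mul_one, mul_inv_cancel]
        have e := hrel _ hm _ _ hv
        rw [mul_one] at e
        have e1 : w * p * w⁻¹ * p⁻¹ = 1 := mul_right_cancel (b := x) (by rw [one_mul]; exact e.symm)
        rw [mul_inv_eq_one, mul_inv_eq_iff_eq_mul] at e1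
        exact e1
      have hqp : q = p := by
        have e := hrel b hb p q hbv
        rw [← hpc x hx] at e
        exact mul_left_cancel e
      refine Subgroup.mem_center_iff.mpr fun w => ?_
      rw [hqp] at hbv
      rcases hz.center p hp hpc with rfl | rfl
      · rw [show b = 1 from Subtype.ext (hbv.trans Perm.sumCongr_one)]; simp
      · rw [show b = C from Subtype.ext hbv]; exact hcomm w
    intro A B hA hB hAB hsup
    by_contra hcon
    push Not at hcon
    -- an element exchanging the halves in one of the factors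
    have hout : (∃ a ∈ A, ∃ p ∈ blk (j + 1), ∃ q ∈ blk (j + 1),
          (a : Perm (Pt (j + 2))) = Perm.sumCongr p q * halves _) ∨
        (∃ b ∈ B, ∃ p ∈ blk (j + 1), ∃ q ∈ blk (j + 1),
          (b : Perm (Pt (j + 2))) = Perm.sumCongr p q * halves _) := by
      by_contra hno
      push Not at hno
      let base : Subgroup (blk (j + 2)) :=
        ((Perm.sumCongrHom (Pt (j + 1)) (Pt (j + 1))).range).subgroupOf (blk (j + 2))
      have hle : A ⊔ B ≤ base := by
        refine sup_le ?_ ?_
        · rintro ⟨a, p, hp, q, hq, rfl | rfl⟩ hm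
          · exact ⟨(p, q), rfl⟩
          · exact absurd rfl (hno.1 _ hm p hp q hq)
        · rintro ⟨a, p, hp, q, hq, rfl | rfl⟩ hm
          · exact ⟨(p, q), rfl⟩
          · exact absurd rfl (hno.2 _ hm p hp q hq)
      obtain ⟨⟨p, q⟩, hpq⟩ := hle (hsup.ge (Subgroup.mem_top T))
      exact sumCongr_ne p q 1 1 (by rw [Perm.sumCongr_one, one_mul]; exact hpq)
    have hout2 : (∃ a ∈ A, ∃ p ∈ blk (j + 1), ∃ q ∈ blk (j + 1),
          (a : Perm (Pt (j + 2))) = Perm.sumCongr p q * halves _) ∧
        (∃ b ∈ B, ∃ p ∈ blk (j + 1), ∃ q ∈ blk (j + 1),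
          (b : Perm (Pt (j + 2))) = Perm.sumCongr p q * halves _) := by
      rcases hout with h | h
      · refine ⟨h, by_contra fun h' => hcon.2 ?_⟩
        push Not at h'
        intro b hb
        obtain ⟨p, hp, q, hq, hv | hv⟩ := b.2
        · exact key A B hB hAB h b hb ⟨p, hp, q, hq, hv⟩
        · exact absurd hv (h' b hb p hp q hq)
      · refine ⟨by_contra fun h' => hcon.1 ?_, h⟩
        push Not at h'
        intro b hb
        obtain ⟨p, hp, q, hq, hv | hv⟩ := b.2
        · exact key B A hA (fun x hx y hy => (hAB y hy x hx).symm) h b hb ⟨p, hp, q, hq, hv⟩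
        · exact absurd hv (h' b hb p hp q hq)
    -- then both factors are abelian
    have hab : ∀ A B : Subgroup (blk (j + 2)), A.Normal → (∀ a ∈ A, ∀ b ∈ B, a * b = b * a) →
        (∃ b ∈ B, ∃ p ∈ blk (j + 1), ∃ q ∈ blk (j + 1),
          (b : Perm (Pt (j + 2))) = Perm.sumCongr p q * halves _) →
        ∀ a ∈ A, ∀ a' ∈ A, a * a' = a' * a := by
      intro A B hA hAB hb a ha a' ha'
      have hbase : ∀ u ∈ A, (∃ p ∈ blk (j + 1), ∃ q ∈ blk (j + 1),
          (u : Perm (Pt (j + 2))) = Perm.sumCongr p q) → u ∈ Subgroup.center (blk (j + 2)) :=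
        key B A hA (fun x hx y hy => (hAB y hy x hx).symm) hb
      obtain ⟨p, hp, q, hq, hv | hv⟩ := a.2
      · exact (Subgroup.mem_center_iff.mp (hbase a ha ⟨p, hp, q, hq, hv⟩) a').symm
      obtain ⟨p', hp', q', hq', hv' | hv'⟩ := a'.2
      · exact Subgroup.mem_center_iff.mp (hbase a' ha' ⟨p', hp', q', hq', hv'⟩) a
      have hc := hbase (a * a'⁻¹) (A.mul_mem ha (A.inv_mem ha')) ⟨p * p'⁻¹,
        mul_mem hp (inv_mem hp'), q * q'⁻¹, mul_mem hq (inv_mem hq'), by
          rw [Subgroup.coe_mul, Subgroup.coe_inv, hv, hv', _root_.mul_inv_rev, ← mul_assoc,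
            mul_inv_cancel_right, Perm.sumCongr_inv, Perm.sumCongr_mul]⟩
      have e := Subgroup.mem_center_iff.mp hc a'
      calc a * a' = a * a'⁻¹ * a' * a' := by group
        _ = a' * (a * a'⁻¹) * a' := by rw [← e]
        _ = a' * a := by group
    have hA' := hab A B hA hAB hout2.2
    have hB' := hab B A hB (fun x hx y hy => (hAB y hy x hx).symm) hout2.1
    refine hcon.1 fun a ha => Subgroup.mem_center_iff.mpr fun w => ?_
    have hw : w ∈ Subgroup.centralizer ({a} : Set (blk (j + 2))) := by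
      refine (show A ⊔ B ≤ _ from sup_le (fun u hu => ?_) (fun u hu => ?_)) (hsup.ge (Subgroup.mem_top w))
      · rw [Subgroup.mem_centralizer_singleton_iff]; exact hA' u hu a ha
      · rw [Subgroup.mem_centralizer_singleton_iff]; exact (hAB a ha u hu).symm
    exact Subgroup.mem_centralizer_singleton_iff.mp hw
  · intro hj g hg
    have hzs : Perm.sign z = 1 := hz.even (by omega)
    obtain ⟨p, hp, q, hq, hv | hv⟩ := g.2
    · have hpq : p = q := by
        have e := congrArg Subtype.val (hg T hTs)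
        simp only [Subgroup.coe_mul, T, hv, halves_conj] at e
        exact (sumCongr_eq (mul_right_cancel e)).2
      subst hpq
      have hpc : ∀ w ∈ blk (j + 1), w * p = p * w := fun w hw => by
        have hs : bsign (j + 2) ⟨_, mem_wr hw hw⟩ = 1 := by
          exact (Perm.sign_sumCongr w w).trans (Int.units_mul_self _)
        have e := congrArg Subtype.val (hg _ hs)
        simp only [Subgroup.coe_mul, hv, Perm.sumCongr_mul] at e
        exact (sumCongr_eq e).1
      rcases hz.center p hp hpc with rfl | rfl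
      · exact Or.inl (Subtype.ext (hv.trans Perm.sumCongr_one))
      · exact Or.inr (Subtype.ext hv)
    · exfalso
      have hs : bsign (j + 2) L = 1 := by
        exact (Perm.sign_sumCongr z 1).trans (by rw [hzs, map_one, mul_one])
      have e := congrArg Subtype.val (hg _ hs)
      simp only [Subgroup.coe_mul, L, hv] at e
      rw [mul_assoc _ (halves _), halves_conj, ← mul_assoc, ← mul_assoc, mul_left_inj,
        Perm.sumCongr_mul, Perm.sumCongr_mul, mul_one] at e
      exact hz.ne (mul_eq_right.mp (sumCongr_eq e).1)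

end CfsgLib.AltTwoDecomp
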