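import Cfsg.Agent.Lib.AltTwoDecomp.Product

/-!
Sylow 2-subgroups of alternating groups as products of blocks.
-/

set_option autoImplicit false
set_option linter.style.haveILetI false

namespace CfsgLib.AltTwoDecomp

open Equiv

theorem sign_mulSingle_sigma {J : Type} [Fintype J] [DecidableEq J] {β : J → Type}
    [∀ j, Fintype (β j)] [∀ j, DecidableEq (β j)] (j : J) (σ : Perm (β j)) :
    Perm.sign (Perm.sigmaCongrRightHom β (Pi.mulSingle j σ)) = Perm.sign σ := by
  induction σ using Perm.swap_induction_on with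
  | one => simp
  | swap_mul f x y hxy ih =>
    have e : Perm.sigmaCongrRightHom β (Pi.mulSingle j (swap x y)) =
        swap (⟨j, x⟩ : Σ j, β j) ⟨j, y⟩ := by
      ext ⟨l, c⟩ : 1
      show (⟨l, Pi.mulSingle (M := fun j => Perm (β j)) j (swap x y) l c⟩ : Σ j, β j) =
        swap ⟨j, x⟩ ⟨j, y⟩ ⟨l, c⟩
      by_cases hl : l = j
      · subst hl
        rw [Pi.mulSingle_eq_same]
        exact (Sigma.mk.injEq .. |>.mpr ⟨rfl, HEq.rfl⟩ :
          (⟨l, swap x y c⟩ : Σ j, β j) = ⟨l, swap x y c⟩).trans
          ((sigma_mk_injective (β := β) (i := l)).map_swap x y c)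
      · rw [Pi.mulSingle_eq_of_ne hl, Perm.one_apply, swap_apply_of_ne_of_ne] <;>
          exact fun h => hl (congrArg Sigma.fst h)
    rw [Pi.mulSingle_mul, map_mul, map_mul, map_mul, ih, e, Perm.sign_swap hxy,
      Perm.sign_swap (fun h => hxy (sigma_mk_injective h))]

/-- The exponents of the blocks. -/
abbrev Bits (m : ℕ) : Type := ↥m.bitIndices.toFinset

/-- The blocks. -/
abbrev Blocks (m : ℕ) (j : Bits m) : Type := ↥(blk ((j : ℕ) + 2))

/-- The signs on the blocks. -/
noncomputable def bsigns (m : ℕ) : ∀ j : Bits m, Blocks m j →* ℤˣ := fun j => bsign ((j : ℕ) + 2)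

theorem val_factorial_bits (m : ℕ) :
    padicValNat 2 (Nat.factorial m) + m.bitIndices.length = m := by
  haveI := Fact.mk Nat.prime_two
  induction m using Nat.binaryRec with
  | zero => simp
  | bit b m ih =>
    cases b
    · rw [Nat.bit_false]; dsimp only; rw [Nat.bitIndices_two_mul, List.length_map, padicValNat_factorial_mul]; omega
    · rw [Nat.bit_true]; dsimp only; rw [Nat.bitIndices_two_mul_add_one, List.length_cons, List.length_map,
        padicValNat_factorial_mul_add m one_lt_two, padicValNat_factorial_mul]; omega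

theorem sum_bits (m : ℕ) : ∑ j : Bits m, 2 ^ ((j : ℕ) + 2) = 4 * m := by
  rw [Finset.sum_coe_sort (m.bitIndices.toFinset) (fun j => 2 ^ (j + 2)),
    List.sum_toFinset _ Nat.bitIndices_nodup]
  have h : (fun j => 2 ^ (j + 2)) = fun j => 4 * 2 ^ j := by funext j; ring
  rw [h, List.sum_map_mul_left, Nat.sum_map_two_pow_bitIndices]

theorem card_bits (m : ℕ) : Fintype.card (Bits m) = m.bitIndices.length := by
  rw [Fintype.card_coe, List.toFinset_card_of_nodup Nat.bitIndices_nodup]

/-- The valuation of the order of the alternating group. -/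
theorem alt_val (n : ℕ) (hn : 2 ≤ n) :
    (Nat.card (alternatingGroup (Fin n))).factorization 2 + 1 = padicValNat 2 (Nat.factorial n) := by
  haveI : Nontrivial (Fin n) := Fin.nontrivial_iff_two_le.mpr hn
  have h := two_mul_nat_card_alternatingGroup (α := Fin n)
  rw [Nat.card_perm, Nat.card_fin] at h
  rw [← Nat.factorization_def _ Nat.prime_two, ← h,
    Nat.factorization_mul two_ne_zero Nat.card_pos.ne', Finsupp.add_apply,
    Nat.prime_two.factorization_self]
  ring

theorem val_split (n : ℕ) :
    padicValNat 2 (Nat.factorial n) + (n / 4).bitIndices.length = 3 * (n / 4) + (n / 4) + (n % 4) / 2 := by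
  haveI := Fact.mk Nat.prime_two
  have h1 : padicValNat 2 (Nat.factorial n) = padicValNat 2 (Nat.factorial (n / 2)) + n / 2 := by
    rw [← padicValNat_mul_div_factorial (p := 2) n, padicValNat_factorial_mul]
  have h2 : padicValNat 2 (Nat.factorial (n / 2)) =
      padicValNat 2 (Nat.factorial (n / 4)) + n / 4 := by
    rw [← padicValNat_mul_div_factorial (p := 2) (n / 2), padicValNat_factorial_mul,
      show n / 2 / 2 = n / 4 by omega]
  have h3 := val_factorial_bits (n / 4)
  omega

theorem card_blocks (m : ℕ) :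
    Nat.card (∀ j : Bits m, Blocks m j) * 2 ^ m.bitIndices.length = 2 ^ (4 * m) := by
  rw [Nat.card_pi, Finset.prod_congr rfl (fun (j : Bits m) _ => card_blk ((j : ℕ) + 2)),
    Finset.prod_pow_eq_pow_sum, ← pow_add]
  congr 1
  rw [← card_bits m, ← sum_bits m, ← Finset.card_univ, Finset.card_eq_sum_ones,
    ← Finset.sum_add_distrib]
  exact Finset.sum_congr rfl fun j _ => Nat.sub_add_cancel Nat.one_le_two_pow

/-- The points of the model. -/
abbrev Model (m r : ℕ) : Type := (Σ j : Bits m, Pt ((j : ℕ) + 2)) ⊕ Fin r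

theorem card_model (m r : ℕ) : Fintype.card (Model m r) = 4 * m + r := by
  rw [Fintype.card_sum, Fintype.card_sigma, Fintype.card_fin,
    Finset.sum_congr rfl (fun (j : Bits m) _ => card_pt ((j : ℕ) + 2)), sum_bits]

/-- The blocks acting on the model. -/
noncomputable def act (m : ℕ) : (∀ j : Bits m, Blocks m j) →*
    Perm (Σ j : Bits m, Pt ((j : ℕ) + 2)) :=
  (Perm.sigmaCongrRightHom _).comp
    (MonoidHom.piMap fun j : Bits m => (blk ((j : ℕ) + 2)).subtype)

theorem act_injective (m : ℕ) : Function.Injective (act m) := fun v w h =>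
  funext fun j => Subtype.ext (congrFun (Perm.sigmaCongrRightHom_injective h) j)

theorem sign_act (m : ℕ) : Perm.sign.comp (act m) = psign (bsigns m) := by
  refine MonoidHom.pi_ext fun j w => ?_
  rw [psign_single]
  show Perm.sign (Perm.sigmaCongrRightHom _ _) = Perm.sign (w : Perm (Pt ((j : ℕ) + 2)))
  rw [← sign_mulSingle_sigma (β := fun j : Bits m => Pt ((j : ℕ) + 2)) j]
  congr 2
  funext l
  by_cases hl : l = j
  · subst hl; simp
  · simp [Pi.mulSingle_eq_of_ne hl]

/-- From a monomorphism of a group of the right order into the alternating group of the model. -/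
theorem sylow_iso {n : ℕ} {G : Type} [Group G] [Finite G]
    (φ : G →* Perm (Model (n / 4) (n % 4))) (hφ : Function.Injective φ)
    (hs : ∀ g, Perm.sign (φ g) = 1)
    (hcard : Nat.card G = 2 ^ (Nat.card (alternatingGroup (Fin n))).factorization 2)
    (P : Sylow 2 (alternatingGroup (Fin n))) : Nonempty (G ≃* (P : Subgroup (alternatingGroup (Fin n)))) := by
  haveI := Fact.mk Nat.prime_two
  let e : Model (n / 4) (n % 4) ≃ Fin n :=
    Fintype.equivFinOfCardEq (by rw [card_model]; omega)
  let ψ : G →* alternatingGroup (Fin n) :=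
    ((e.permCongrHom.toMonoidHom).comp φ).codRestrict _ fun g => by
      show Perm.sign (e.permCongr (φ g)) = 1
      rw [Perm.sign_permCongr, hs]
  have hψ : Function.Injective ψ := fun a b h =>
    hφ (e.permCongrHom.injective (congrArg Subtype.val h))
  let S : Sylow 2 (alternatingGroup (Fin n)) := Sylow.ofCard ψ.range (by
    rw [← hcard]
    exact (Nat.card_congr (MonoidHom.ofInjective hψ).toEquiv).symm)
  exact ⟨(MonoidHom.ofInjective hψ).trans (Sylow.equiv S P)⟩

/-- The Sylow 2-subgroups when the odd part of the blocks is compensated by the remainder. -/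
theorem sylow_high {n : ℕ} (hn : 4 ≤ n) (hr : 2 ≤ n % 4) (P : Sylow 2 (alternatingGroup (Fin n))) :
    Nonempty ((∀ j : Bits (n / 4), Blocks (n / 4) j) ≃* (P : Subgroup (alternatingGroup (Fin n)))) := by
  let σ : Perm (Fin (n % 4)) := Equiv.swap ⟨0, by omega⟩ ⟨1, by omega⟩
  have hσ : Perm.sign σ = -1 := Perm.sign_swap (by simp [Fin.ext_iff])
  let c : ℤˣ →* Perm (Fin (n % 4)) :=
    { toFun := fun u => if u = 1 then 1 else σ
      map_one' := if_pos rfl
      map_mul' := fun u v => by
        rcases Int.units_eq_one_or u with rfl | rfl <;> rcases Int.units_eq_one_or v with rfl | rfl <;>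
          simp [σ] }
  have hc : ∀ u, Perm.sign (c u) = u := fun u => by
    rcases Int.units_eq_one_or u with rfl | rfl
    · simp
    · show Perm.sign (if (-1 : ℤˣ) = 1 then (1 : Perm (Fin (n % 4))) else σ) = -1
      rw [if_neg (show (-1 : ℤˣ) ≠ 1 by decide), hσ]
  refine sylow_iso ((Perm.sumCongrHom _ _).comp
    ((act (n / 4)).prod (c.comp (psign (bsigns (n / 4)))))) ?_ ?_ ?_ P
  · intro v w h
    exact act_injective _ (Prod.mk_inj.mp (Perm.sumCongrHom_injective h)).1
  · intro w
    show Perm.sign (Perm.sumCongr (act _ w) (c (psign _ w))) = 1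
    rw [Perm.sign_sumCongr, hc, ← sign_act]
    exact Int.units_mul_self _
  · have h1 := card_blocks (n / 4)
    have h2 := alt_val n (by omega)
    have h3 := val_split n
    refine Nat.eq_of_mul_eq_mul_right (Nat.two_pow_pos (n / 4).bitIndices.length) ?_
    rw [h1, ← pow_add]
    congr 1
    omega

/-- The Sylow 2-subgroups when the remainder is too small. -/
theorem sylow_low {n : ℕ} (hn : 4 ≤ n) (hr : n % 4 ≤ 1) (P : Sylow 2 (alternatingGroup (Fin n))) :
    Nonempty ((psign (bsigns (n / 4))).ker ≃* (P : Subgroup (alternatingGroup (Fin n)))) := by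
  refine sylow_iso (((Perm.sumCongrHom _ _).comp ((act (n / 4)).prod 1)).comp
    (psign (bsigns (n / 4))).ker.subtype) ?_ ?_ ?_ P
  · intro v w h
    exact Subtype.ext (act_injective _ (Prod.mk_inj.mp (Perm.sumCongrHom_injective h)).1)
  · intro w
    show Perm.sign (Perm.sumCongr (act _ (w : ∀ j, Blocks (n / 4) j)) 1) = 1
    rw [Perm.sign_sumCongr, map_one, mul_one]
    exact (DFunLike.congr_fun (sign_act (n / 4)) _).trans (MonoidHom.mem_ker.mp w.2)
  · have h1 := card_blocks (n / 4)
    have h2 := alt_val n (by omega)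
    have h3 := val_split n
    have hne : (n / 4).bitIndices ≠ [] := fun h => by
      have := Nat.sum_map_two_pow_bitIndices (n / 4)
      rw [h] at this; simp at this; omega
    obtain ⟨j, hj⟩ := List.exists_mem_of_ne_nil _ hne
    obtain ⟨z, hz, -⟩ := exists_block j
    obtain ⟨o, ho⟩ := hz.odd
    have hsurj : Function.Surjective (psign (bsigns (n / 4))) := by
      intro u
      rcases Int.units_eq_one_or u with rfl | rfl
      · exact ⟨1, map_one _⟩
      · exact ⟨Pi.mulSingle (⟨j, List.mem_toFinset.mpr hj⟩ : Bits (n / 4)) o,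
          (psign_single _ _).trans ho⟩
    have hk : Nat.card (psign (bsigns (n / 4))).ker * 2 = Nat.card (∀ j, Blocks (n / 4) j) := by
      rw [← (psign (bsigns (n / 4))).ker.card_mul_index, Subgroup.index_ker,
        MonoidHom.range_eq_top.mpr hsurj, Subgroup.card_top, Nat.card_eq_fintype_card (α := ℤˣ),
        Fintype.card_units_int]
    refine Nat.eq_of_mul_eq_mul_right (Nat.two_pow_pos ((n / 4).bitIndices.length + 1)) ?_
    rw [← pow_add, pow_succ', ← mul_assoc, hk, h1]
    congr 1
    omega

end CfsgLib.AltTwoDecomp
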