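import Cfsg.Agent.Lib.AltTwoDecomp.Block

/-!
Products of blocks and their even parts: which of them split as a direct product.
-/

set_option autoImplicit false
open scoped commutatorElement

namespace CfsgLib.AltTwoDecomp

/-- The group is a direct product of two non-trivial subgroups. -/
def Decomp (G : Type*) [Group G] : Prop :=
  ∃ A B : Subgroup G, A ≠ ⊥ ∧ B ≠ ⊥ ∧ (∀ a ∈ A, ∀ b ∈ B, a * b = b * a) ∧ A ⊓ B = ⊥ ∧ A ⊔ B = ⊤

theorem decomp_congr {G H : Type*} [Group G] [Group H] (e : G ≃* H) (h : Decomp G) : Decomp H := by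
  obtain ⟨A, B, hA, hB, hc, hi, hs⟩ := h
  refine ⟨A.map e.toMonoidHom, B.map e.toMonoidHom, ?_, ?_, ?_, ?_, ?_⟩
  · rwa [Ne, Subgroup.map_eq_bot_iff_of_injective _ e.injective]
  · rwa [Ne, Subgroup.map_eq_bot_iff_of_injective _ e.injective]
  · rintro _ ⟨a, ha, rfl⟩ _ ⟨b, hb, rfl⟩
    rw [← map_mul, hc a ha b hb, map_mul]
  · rw [← Subgroup.map_inf _ _ _ e.injective, hi, Subgroup.map_bot]
  · rw [← Subgroup.map_sup, hs, Subgroup.map_top_of_surjective _ e.surjective]

theorem normal_left {G : Type*} [Group G] {A B : Subgroup G} (hc : ∀ a ∈ A, ∀ b ∈ B, a * b = b * a)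
    (hs : A ⊔ B = ⊤) : A.Normal := by
  rw [← Subgroup.normalizer_eq_top_iff]
  refine top_le_iff.1 (hs.ge.trans (sup_le Subgroup.le_normalizer fun b hb => ?_))
  rw [Subgroup.mem_normalizer_iff]
  refine fun x => ⟨fun hx => ?_, fun hx => ?_⟩
  · rw [← hc x hx b hb, mul_inv_cancel_right]; exact hx
  · have e := congrArg (fun t => b⁻¹ * t) (hc _ hx b hb)
    simp only [mul_assoc, inv_mul_cancel_left, inv_mul_cancel, mul_one] at e
    rwa [mul_assoc, ← e] at hx

/-- A 2-group whose centre has at most two elements is indecomposable. -/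
theorem not_decomp_of_center {G : Type*} [Group G] [Finite G] (hG : IsPGroup 2 G) (z : G)
    (hz : ∀ x : G, (∀ w, w * x = x * w) → x = 1 ∨ x = z) : ¬ Decomp G := by
  haveI := Fact.mk Nat.prime_two
  rintro ⟨A, B, hA, hB, hc, hi, hs⟩
  have key : ∀ A B : Subgroup G, A ≠ ⊥ → (∀ a ∈ A, ∀ b ∈ B, a * b = b * a) → A ⊔ B = ⊤ → z ∈ A := by
    intro A B hA hc hs
    haveI : Nontrivial A := (Subgroup.nontrivial_iff_ne_bot A).mpr hA
    haveI := (hG.to_subgroup A).center_nontrivial
    obtain ⟨⟨⟨a, ha⟩, hac⟩, hne⟩ := exists_ne (1 : Subgroup.center A)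
    have hcen : ∀ w, w * a = a * w := by
      intro w
      have hw : w ∈ Subgroup.centralizer ({a} : Set G) := by
        refine (show A ⊔ B ≤ _ from sup_le (fun u hu => ?_) (fun u hu => ?_)) (hs.ge (Subgroup.mem_top w))
        · rw [Subgroup.mem_centralizer_singleton_iff]
          exact congrArg Subtype.val (Subgroup.mem_center_iff.mp hac ⟨u, hu⟩)
        · rw [Subgroup.mem_centralizer_singleton_iff]; exact (hc a ha u hu).symm
      exact Subgroup.mem_centralizer_singleton_iff.mp hw
    rcases hz a hcen with rfl | rfl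
    · exact absurd (Subtype.ext (Subtype.ext rfl)) hne
    · exact ha
  have h1 := key A B hA hc hs
  have h2 := key B A hB (fun b hb a ha => (hc a ha b hb).symm) (by rw [sup_comm]; exact hs)
  have hz1 : z = 1 := Subgroup.mem_bot.mp (hi ▸ Subgroup.mem_inf.mpr ⟨h1, h2⟩)
  haveI : Nontrivial A := (Subgroup.nontrivial_iff_ne_bot A).mpr hA
  haveI : Nontrivial G := Function.Injective.nontrivial A.subtype_injective
  haveI := hG.center_nontrivial
  obtain ⟨⟨x, hx⟩, hne⟩ := exists_ne (1 : Subgroup.center G)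
  rcases hz x (fun w => Subgroup.mem_center_iff.mp hx w) with rfl | rfl
  · exact hne rfl
  · exact hne (Subtype.ext hz1)

variable {J : Type} [Fintype J] [DecidableEq J] {W : J → Type} [∀ j, Group (W j)]

/-- The product of the signs. -/
def psign (s : ∀ j, W j →* ℤˣ) : (∀ j, W j) →* ℤˣ where
  toFun w := ∏ j, s j (w j)
  map_one' := by simp
  map_mul' v w := by simp [Finset.prod_mul_distrib]

theorem decomp_pi [Nontrivial J] (hne : ∀ j, ∃ w : W j, w ≠ (1 : W j)) : Decomp (∀ j, W j) := by
  obtain ⟨i, k, hik⟩ := exists_pair_ne J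
  refine ⟨(MonoidHom.mulSingle W i).range, (Pi.evalMonoidHom W i).ker, ?_, ?_, ?_, ?_, ?_⟩
  · obtain ⟨w, hw⟩ := hne i
    intro h
    have hm : (MonoidHom.mulSingle W i) w ∈ (MonoidHom.mulSingle W i).range := ⟨w, rfl⟩
    rw [h, Subgroup.mem_bot] at hm
    have e := congrFun hm i
    rw [MonoidHom.mulSingle_apply, Pi.mulSingle_eq_same, Pi.one_apply] at e
    exact hw e
  · obtain ⟨w, hw⟩ := hne k
    intro h
    have hm : Pi.mulSingle (M := W) k w ∈ (Pi.evalMonoidHom W i).ker :=
      Pi.mulSingle_eq_of_ne hik w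
    rw [h, Subgroup.mem_bot] at hm
    have e := congrFun hm k
    rw [Pi.mulSingle_eq_same, Pi.one_apply] at e
    exact hw e
  · rintro _ ⟨w, rfl⟩ b (hb : b i = 1)
    funext l
    by_cases hl : l = i
    · subst hl; simp [hb]
    · simp [hl]
  · refine (Subgroup.eq_bot_iff_forall _).mpr fun x hx => ?_
    obtain ⟨⟨w, rfl⟩, hb⟩ := Subgroup.mem_inf.mp hx
    have hw : w = 1 := by simpa using (hb : MonoidHom.mulSingle W i w i = 1)
    rw [hw, map_one]
  · refine top_le_iff.mp fun x _ => ?_
    rw [show x = MonoidHom.mulSingle W i (x i) * ((MonoidHom.mulSingle W i (x i))⁻¹ * x) by group]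
    refine mul_mem (Subgroup.mem_sup_left ⟨_, rfl⟩) (Subgroup.mem_sup_right ?_)
    show ((MonoidHom.mulSingle W i (x i))⁻¹ * x) i = 1
    simp

variable {s : ∀ j, W j →* ℤˣ} {z : ∀ j, W j}

theorem psign_single (j : J) (w : W j) : psign s (Pi.mulSingle j w) = s j w := by
  show ∏ l, s l (Pi.mulSingle j w l) = s j w
  rw [Finset.prod_eq_single j]
  · rw [Pi.mulSingle_eq_same]
  · exact fun l _ hl => by rw [Pi.mulSingle_eq_of_ne hl, map_one]
  · exact fun h => absurd (Finset.mem_univ j) h

theorem not_decomp_ker [Nontrivial J] (hb : ∀ j, IsBlock (s j) (z j)) :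
    ¬ Decomp (psign s).ker := by
  rintro ⟨A, B, hA, hB, hc, hi, hs⟩
  choose o ho using fun j => (hb j).odd
  let π : ∀ j, (psign s).ker →* W j := fun j => (Pi.evalMonoidHom W j).comp (psign s).ker.subtype
  have hlift : ∀ j (w : W j), ∃ p : (psign s).ker, π j p = w := by
    intro j w
    obtain ⟨l, hl⟩ := exists_ne j
    by_cases hw : s j w = 1
    · exact ⟨⟨Pi.mulSingle j w, (psign_single j w).trans hw⟩, Pi.mulSingle_eq_same j w⟩
    · refine ⟨⟨Pi.mulSingle j w * Pi.mulSingle l (o l), MonoidHom.mem_ker.mpr ?_⟩, ?_⟩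
      · rw [map_mul, psign_single, psign_single, ho,
          (Int.units_eq_one_or _).resolve_left hw]
        rfl
      · show (Pi.mulSingle j w * Pi.mulSingle (M := W) l (o l) : ∀ j, W j) j = w
        rw [Pi.mul_apply, Pi.mulSingle_eq_same, Pi.mulSingle_eq_of_ne hl.symm, mul_one]
  have hAn : A.Normal := normal_left hc hs
  have hBn : B.Normal := normal_left (fun b hb a ha => (hc a ha b hb).symm)
    (by rw [sup_comm]; exact hs)
  have hsplit : ∀ j, A.map (π j) ≤ Subgroup.center (W j) ∨ B.map (π j) ≤ Subgroup.center (W j) := by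
    intro j
    refine (hb j).split _ _ (hAn.map _ (hlift j)) (hBn.map _ (hlift j)) ?_ ?_
    · rintro _ ⟨a, ha, rfl⟩ _ ⟨b, hb', rfl⟩
      rw [← map_mul, hc a ha b hb', map_mul]
    · rw [← Subgroup.map_sup, hs, Subgroup.map_top_of_surjective _ (hlift j)]
  have hcen : ∀ j, ∀ x ∈ Subgroup.center (W j), s j x = 1 := by
    intro j x hx
    rcases (hb j).center x (fun w => Subgroup.mem_center_iff.mp hx w) with rfl | rfl
    · exact map_one _
    · exact (hb j).even
  -- neither factor lies in the product of the centres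
  have hnotall : ∀ A B : Subgroup (psign s).ker, A ≠ ⊥ → B.Normal →
      (∀ a ∈ A, ∀ b ∈ B, a * b = b * a) → A ⊓ B = ⊥ → A ⊔ B = ⊤ →
      ¬ ∀ j, A.map (π j) ≤ Subgroup.center (W j) := by
    intro A B hA hBn hc hi hs h
    have hAz : ∀ a ∈ A, a ∈ Subgroup.center (psign s).ker := by
      intro a ha
      refine Subgroup.mem_center_iff.mpr fun w => Subtype.ext (funext fun j => ?_)
      exact Subgroup.mem_center_iff.mp (h j ⟨a, ha, rfl⟩) (π j w)
    have hder : ∀ x y : (psign s).ker, ⁅x, y⁆ ∈ B := by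
      intro x y
      obtain ⟨a, ha, b, hb', rfl⟩ := Subgroup.mem_sup_of_normal_right.mp (hs.ge (Subgroup.mem_top x))
      obtain ⟨a', ha', b', hb'', rfl⟩ := Subgroup.mem_sup_of_normal_right.mp (hs.ge (Subgroup.mem_top y))
      rw [show ⁅a * b, a' * b'⁆ = ⁅b, b'⁆ by
        have h1 : Commute a (b * (a' * b') * b⁻¹) := (Subgroup.mem_center_iff.mp (hAz a ha) _).symm
        have h2 : Commute a' b := (Subgroup.mem_center_iff.mp (hAz a' ha') _).symm
        rw [commutatorElement_def, commutatorElement_def]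
        calc a * b * (a' * b') * (a * b)⁻¹ * (a' * b')⁻¹
            = a * (b * (a' * b') * b⁻¹) * a⁻¹ * (a' * b')⁻¹ := by group
          _ = b * (a' * b') * b⁻¹ * (a' * b')⁻¹ := by rw [h1.eq, mul_inv_cancel_right]
          _ = b * a' * b' * b⁻¹ * b'⁻¹ * a'⁻¹ := by group
          _ = a' * (b * b' * b⁻¹ * b'⁻¹) * a'⁻¹ := by rw [← h2.eq]; group
          _ = b * b' * b⁻¹ * b'⁻¹ := by
            rw [← Subgroup.mem_center_iff.mp (hAz a' ha'), mul_inv_cancel_right]]
      exact B.mul_mem (B.mul_mem (B.mul_mem hb' hb'') (B.inv_mem hb')) (B.inv_mem hb'')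
    have hzB : ∀ j, ∀ p : (psign s).ker, (p : ∀ j, W j) = Pi.mulSingle j (z j) → p ∈ B := by
      intro j p hp
      obtain ⟨e, w, he, hew⟩ := (hb j).bracket
      obtain ⟨q, hq⟩ := hlift j w
      convert hder ⟨Pi.mulSingle j e, (psign_single j e).trans he⟩ q
      refine Subtype.ext (hp.trans (funext fun l => ?_))
      show Pi.mulSingle (M := W) j (z j) l = ⁅(Pi.mulSingle j e : ∀ j, W j) l, π l q⁆
      by_cases hl : l = j
      · subst hl; rw [Pi.mulSingle_eq_same, Pi.mulSingle_eq_same, hq, hew]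
      · rw [Pi.mulSingle_eq_of_ne hl, Pi.mulSingle_eq_of_ne hl, commutatorElement_one_left]
    refine hA ((Subgroup.eq_bot_iff_forall A).mpr fun a ha => ?_)
    have hall : ∀ T : Finset J, ∀ p : (psign s).ker, (∀ j ∉ T, (p : ∀ j, W j) j = 1) →
        (∀ j, (p : ∀ j, W j) j ∈ Subgroup.center (W j)) → p ∈ B := by
      intro T
      induction T using Finset.induction with
      | empty =>
        intro p hp _
        rw [show p = 1 from Subtype.ext (funext fun j => hp j (Finset.notMem_empty j))]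
        exact one_mem B
      | @insert j T hj ih =>
        intro p hp hpc
        rcases (hb j).center _ (fun w => Subgroup.mem_center_iff.mp (hpc j) w) with h1 | h1
        · refine ih p (fun l hl => ?_) hpc
          by_cases h' : l = j
          · rw [h', h1]
          · exact hp l (by simp [h', hl])
        · let q : (psign s).ker := ⟨Pi.mulSingle j (z j), (psign_single j _).trans (hb j).even⟩
          rw [show p = q * (q⁻¹ * p) by group]
          refine B.mul_mem (hzB j q rfl) (ih _ (fun l hl => ?_) fun l => ?_)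
          · show ((Pi.mulSingle j (z j) : ∀ j, W j)⁻¹ * (p : ∀ j, W j)) l = 1
            by_cases h' : l = j
            · subst h'; simp [h1]
            · simp [h', hp l (by simp [h', hl])]
          · show ((Pi.mulSingle j (z j) : ∀ j, W j)⁻¹ * (p : ∀ j, W j)) l ∈ Subgroup.center (W l)
            by_cases h' : l = j
            · subst h'; simp [h1]
            · simpa [h'] using hpc l
    exact Subgroup.mem_bot.mp (hi ▸ Subgroup.mem_inf.mpr
      ⟨ha, hall Finset.univ a (fun j hj => absurd (Finset.mem_univ j) hj) fun j => h j ⟨a, ha, rfl⟩⟩)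
  obtain ⟨j, hj⟩ := not_forall.mp (hnotall A B hA hBn hc hi hs)
  obtain ⟨l, hl⟩ := not_forall.mp (hnotall B A hB hAn (fun b hb a ha => (hc a ha b hb).symm)
    (by rw [inf_comm]; exact hi) (by rw [sup_comm]; exact hs))
  have hjl : j ≠ l := by
    rintro rfl
    exact (hsplit j).elim hj hl
  let p : (psign s).ker := ⟨Pi.mulSingle j (o j) * Pi.mulSingle l (o l), MonoidHom.mem_ker.mpr (by
    rw [map_mul, psign_single, psign_single, ho, ho]; rfl)⟩
  obtain ⟨a, ha, b, hb', hab⟩ := Subgroup.mem_sup_of_normal_right.mp (hs.ge (Subgroup.mem_top p))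
  have hprod : ∀ i, s i (π i a) = if i = j then -1 else 1 := by
    intro i
    by_cases hi' : A.map (π i) ≤ Subgroup.center (W i)
    · rw [hcen i _ (hi' ⟨a, ha, rfl⟩), if_neg]
      rintro rfl
      exact hj hi'
    · have hb1 : s i (π i b) = 1 := hcen i _ ((hsplit i).resolve_left hi' ⟨b, hb', rfl⟩)
      have hil : i ≠ l := by
        rintro rfl
        exact (hsplit i).elim hi' hl
      have e := congrArg (fun q => s i (π i q)) hab
      simp only [map_mul, hb1, mul_one] at e
      rw [e]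
      show s i ((Pi.mulSingle j (o j) * Pi.mulSingle (M := W) l (o l) : ∀ j, W j) i) = _
      by_cases h : i = j
      · subst h; rw [Pi.mul_apply, Pi.mulSingle_eq_same, Pi.mulSingle_eq_of_ne hil, mul_one, ho,
          if_pos rfl]
      · rw [Pi.mul_apply, Pi.mulSingle_eq_of_ne h, Pi.mulSingle_eq_of_ne hil, mul_one, map_one,
          if_neg h]
  have h1 : psign s (a : ∀ j, W j) = 1 := MonoidHom.mem_ker.mp a.2
  have h2 : psign s (a : ∀ j, W j) = -1 := by
    show ∏ i, s i (π i a) = -1
    rw [Finset.prod_congr rfl (fun i _ => hprod i), Finset.prod_ite_eq']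
    simp
  rw [h1] at h2
  exact absurd h2 (by decide)

end CfsgLib.AltTwoDecomp
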